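import Cfsg.Agent.H475.KGL.Rows
import Cfsg.Agent.LieClassical.SympCount
import Cfsg.Agent.H540.ClassNum

/-!
# Orders of groups of isometries of alternating forms; class number tools (helper195)

* `card_dvd` : the order of a group of isometries of a nondegenerate alternating form on a space of dimension `2 m` over
  a finite field divides `∏ i < m, (q ^ (2 (i + 1)) - 1) q ^ (2 i + 1)`;
* `kc_le_card`, `kc_le_orbit`, `kc_le_hom` : class numbers.
-/

set_option autoImplicit false

namespace Cfsg.Agent.H195.Kgl

open Cfsg.Agent.H475.KGL Cfsg.Agent.LieClassical.SympCount Module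

section order

variable {F : Type*} [Field F] {V : Type*} [AddCommGroup V] [Module F V]

/-- The action on hyperbolic tuples. -/
def hypAct (B : LinearMap.BilinForm F V) (m : ℕ) (X : Subgroup (V ≃ₗ[F] V))
    (hX : ∀ g ∈ X, ∀ u v, B (g u) (g v) = B u v) : MulAction X (HypTuple B m) where
  smul g p := ⟨fun i => ((g : V ≃ₗ[F] V) (p.1 i).1, (g : V ≃ₗ[F] V) (p.1 i).2), fun i j => by
    rw [hX _ g.2, hX _ g.2, hX _ g.2]
    exact p.2 i j⟩
  one_smul p := rfl
  mul_smul g h p := rfl

/-- hyperbolic tuples of full length span -/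
theorem eq_one_of_fix [FiniteDimensional F V] {B : LinearMap.BilinForm F V} (hB : ∀ x, B x x = 0) {m : ℕ}
    (hV : finrank F V = 2 * m) (p : HypTuple B m) {g : V ≃ₗ[F] V}
    (h1 : ∀ i, g (p.1 i).1 = (p.1 i).1) (h2 : ∀ i, g (p.1 i).2 = (p.1 i).2) : g = 1 := by
  classical
  let b : Fin m ⊕ Fin m → V := Sum.elim (fun i => (p.1 i).1) (fun i => (p.1 i).2)
  have hli : LinearIndependent F b := by
    rw [Fintype.linearIndependent_iff]
    intro c hc
    rw [Fintype.sum_sum_type] at hc
    have key1 : ∀ j, c (Sum.inl j) = 0 := by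
      intro j
      have h3 := congrArg (fun x => B x (p.1 j).2) hc
      simp only [map_add, map_sum, LinearMap.add_apply, LinearMap.sum_apply, map_smul, LinearMap.smul_apply, b,
        Sum.elim_inl, Sum.elim_inr, (p.2 _ j).2.2, (p.2 _ j).2.1, smul_eq_mul, mul_zero, Finset.sum_const_zero,
        add_zero, mul_ite, mul_one, map_zero, LinearMap.zero_apply] at h3
      rwa [Finset.sum_ite_eq' Finset.univ j, if_pos (Finset.mem_univ _)] at h3
    intro i
    rcases i with j | j
    · exact key1 j
    · have h3 := congrArg (fun x => B (p.1 j).1 x) hc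
      simp only [map_add, map_sum, map_smul, b,
        Sum.elim_inl, Sum.elim_inr, (p.2 j _).2.2, (p.2 j _).1, smul_eq_mul, mul_zero, Finset.sum_const_zero,
        zero_add, mul_ite, mul_one, map_zero] at h3
      rwa [Finset.sum_ite_eq Finset.univ j, if_pos (Finset.mem_univ _)] at h3
  have hspan := hli.span_eq_top_of_card_eq_finrank' (by
    rw [Fintype.card_sum, Fintype.card_fin, hV]; ring)
  apply LinearEquiv.toLinearMap_injective
  refine LinearMap.ext_on_range hspan ?_
  rintro (i | i)
  · exact h1 i
  · exact h2 i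

theorem finite_end [Finite F] [FiniteDimensional F V] : Finite (V ≃ₗ[F] V) := by
  have : Finite V := Module.finite_of_finite F
  exact Finite.of_injective (fun g : V ≃ₗ[F] V => (g : V → V)) DFunLike.coe_injective

/-- **The order of a group of isometries.** -/
theorem card_dvd [Fintype F] [FiniteDimensional F V] {B : LinearMap.BilinForm F V} (hB : ∀ x, B x x = 0)
    (hnd : ∀ x, (∀ y, B x y = 0) → x = 0) {m : ℕ} (hV : finrank F V = 2 * m) (X : Subgroup (V ≃ₗ[F] V))
    (hX : ∀ g ∈ X, ∀ u v, B (g u) (g v) = B u v) :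
    Nat.card X ∣ ∏ i ∈ Finset.range m, ((Fintype.card F ^ (2 * (i + 1)) - 1) * Fintype.card F ^ (2 * i + 1)) := by
  classical
  have hfin := finite_end (F := F) (V := V)
  rw [← card_hypTuple m V B hB hnd hV]
  letI := hypAct B m X hX
  have hstab : ∀ p : HypTuple B m, MulAction.stabilizer X p = ⊥ := by
    intro p
    rw [eq_bot_iff]
    intro g hg
    have hg' : g • p = p := hg
    rw [Subgroup.mem_bot]
    apply Subtype.ext
    refine eq_one_of_fix hB hV p ?_ ?_
    · intro i
      exact congrArg (fun r : HypTuple B m => (r.1 i).1) hg'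
    · intro i
      exact congrArg (fun r : HypTuple B m => (r.1 i).2) hg'
  rw [Nat.card_congr (MulAction.selfEquivOrbitsQuotientProd hstab), Nat.card_prod]
  exact dvd_mul_left _ _

end order

section kc

variable {G : Type*} [Group G] [Finite G]

theorem kc_le_card : kc G ≤ Nat.card G :=
  Nat.card_le_card_of_surjective (ConjClasses.mk : G → ConjClasses G) ConjClasses.mk_surjective

/-- class number and orbits -/
theorem kc_le_orbit {Ω : Type*} [MulAction G Ω] (x : Ω) :
    kc G ≤ Nat.card (MulAction.orbit G x) * kc (MulAction.stabilizer G x) := by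
  have h := Cfsg.Agent.H540.ClassNum.le_index_mul' (MulAction.stabilizer G x)
  rwa [MulAction.index_stabilizer] at h

theorem kc_le_hom {H : Type*} [Group H] (f : G →* H) : kc G ≤ Nat.card f.ker * kc f.range :=
  (Cfsg.Agent.H540.ClassNum.le_ker_mul_range f).trans (Nat.mul_le_mul_right _ kc_le_card)

end kc

end Cfsg.Agent.H195.Kgl
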